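import Cfsg.Agent.Lib.ToddCox.Glue
set_option autoImplicit false
set_option maxRecDepth 100000
namespace Cfsg.Agent.Lib.ToddCox.M21X
def E_0 : ℕ := 0xfc000010000013f000000000001fc000000000003f000001000000040000040000041000000000004fc000004000007f000004000006fc000000000003f000006000001fc00000800000bf000001000002000000180000180000002000002fc000064000067f000002000006fc00002800002bf000006000011fc00006800006bf00001100001a04000068000068100001a000011080000280000282000011000001080000040000042000001000004080000080000082000004000021fc000044000047f000021000004040000100000101000004000000080000000000002000000000007fc000004000007f00000700000bfc000010000013f00000b000004fc00008800008bf000004000003fc000000000003f00000300000ffc00002c00002ff00000f000010fc000000000003f000010000002fc0000a80000abf00000200000010000000000000400000000000dfc00000800000bf00000d00000dfc0000a80000abf00000d00000f04000010000010100000f000004100000100000104000004000005fc000000000003f00000500000cfc00004c00004ff00000c00000ffc00004800004bf00000f000004fc000050000053f00000400002a0800003c00003c200002a00002cfc0000a80000abf00002c000017040000300000301000017000025fc00005c00005ff000025000012080000340000342000012000012fc00009c00009ff000012000032fc000034000037f00003200000c08000050000050200000c0000140c000014000014300001400000cfc0000d00000d3f00000c0000170c0000480000483000017000014fc000060000063f000014000033fc00005c00005ff000033000035fc00001400001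7f0000350000360000005c00005c0000036000035080000cc0000cc20000350000250c00009c00009c30000250000131000003000003040000130000130400008c00008c1000013000026fc00004c00004ff0000260000300000004c00004c000003000002a0c0000b00000b0300002a00002a04000040000040100002a00002efc0000a80000abf00002e00002f080000a40000a4200002f00002e0c0000b00000b0300002e00000f10000048000048400000f0000260400008c00008c10000260000220800003800003820000220000210000002c00002c000002100001c0c000074000074300001c00001ffc000070000073f00001f0000200800006c00006c200002000001f0c000074000074300001f00000d0c00004c00004c300000d00000d04000014000014100000d000016fc000034000037f0000160000180800003000003020000180000160c00004c00004c30000160000140400003c00003c10000140000070000000c00000c0000007000015080000d80000d820000150000140c0000d40000d43000014000014080000d00000d020000140000120c0000cc0000cc3000012000012080000c80000c82000012000012000000c40000c40000012000011080000c00000c020000110000100c0000bc0000bc3000010000010040000b80000b81000010000010000000b40000b4000001000000f080000b00000b0200000f00000f000000ac0000ac000000f00000e100000a80000a8400000e00000e0c0000a40000a4300000e00000e000000a00000a0000000e00000d0800009c00009c200000d00000c10000098000098400000c00000c04000094000094100000c00000c00000090000090000000c00000b0c00008c00008c300000b00000b04000088000088100000b00000a08000084000084200000a0000090c00008000008030000090000090400007c00007c100000900000900000078000078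00000090000080800007400007420000080000061000007000007040000060000060c00006c00006c30000060000060800006800006820000060000060000006400006400000060000050c00006000006030000050000050800005c00005c20000050000050400005800005810000050000050000005400005400000050000041000005000005040000040000040800004c00004c20000040000040400004800004810000040000040000004400004400000040000031000004000004040000030000030c00003c00003c30000030000030400003800003810000030000021000003400003440000020000020c00003000003030000020000020800002c00002c20000020000020000002800002800000020000011000002400002440000010000010c00002000002030000010000010800001c00001c20000010000010400001800001810000010000001000001400001440000000000000c00001000001030000000000000800000c00000c2000000000000040000080000081000000000000000000040000040000000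
def E_1 : ℕ := 0x400000000000010000000000000000000000000000000000000000c0000000000003000000
end Cfsg.Agent.Lib.ToddCox.M21X
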