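import Cfsg.Agent.Lib.ToddCox.M21X.Data
set_option autoImplicit false
set_option maxRecDepth 100000
namespace Cfsg.Agent.Lib.ToddCox.M21X
theorem wordsGood : allBelow (wordsOK W (relR Rb inv) inv sp) nW 5 = true := by decide +kernel
theorem d0 : allBits (fun k => bif Nat.blt k 54 then chkDef Eo inv k else true) 13 0 = true := by decide +kernel
def L0 : List ℕ := [nat_lit 0x72000053000019c00001a0000a400003200000180000d20000a3000017800003800013c0000a300001680000340000d000002600001280002500000bc000020000003000002400005a0000a000003500000a000001800006a00001400000b400000000006800003780002240000440000230000308000180000044000023000032800002c00009000009a00004c800026000012800009500004c80002600000f000004d000001000025800009400000a00004b000021c00000a00004a00000b000004c00008200008300000a00000640000f200009400002f000008000004a00000900002f000008000004a000000000047000022c00000c00008e00002d00000140000b400005d000046800014000003400001b000027800013800003400001b00002980000100000b800005b00002d00001640000b000005b00002d0000078000036000051000001800016800003c00001b00000d00001b00000da00001b00000d00000740000ae00000200003700001bc0000aa00005400003700001bc000038000004000003800008c00001000004a000024800012000008e000046000024800012000002c00001500002280000040000840000140000010000014000036000007000020000004800002a00000000003f00001ec00000c00003c00001f80001f400006800000a00000580000c400006000000a00000580000dc00000800003e00001e80000f000007600003a00001e80000f000002000000b00001a800000c0000780000100000058000028000000000001000005800002800001e00003900000100001d00000e200000600003a00000a800000a00002a00001780001cc00002c000002000001800004c000024000002000001800006400000800002e00001580000a800005200002800001580000a800001000000300000b800000c0000540000080000018000008000002000000000001800000800000e00002500000100000980000460000220000108000080000046000022000003000001400003a000001000006000000000000a000000,nat_lit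 0x6400000a000073800002c000066000019000071000010000001e0000dc000006000003c0001b4000014000007800020c0001b600002100000b80003640000840000db00000c000035800000800000f000036800035c00000200001700006a00000700001ae00000700000b00003200001aa000043000009800007c0001a60000ce00000a80002f00001a000001500000680002400001a000000200000980003300001960000140000620000020000014000079000061000005800001c0000b400006000002f000001a0000c1000011000001400017e00002600000500002b000017c00000600000700002bc00017c00002500000680001b800017c000023000009800008c00016a00007700001680002e400015e00001200005d000015800001e00005600003700002b800013400002400001180002d400003000001500002180002140000a600001100005b000012000000a00009d00005900002a000001c0000b3000026000003c0000c60000b100002680000340000c4000022000012800026c00002c00001500002180002140000a600009300002b00001b800015c00009a00003c0000040000156000066000007800029c00005c000006]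
theorem s0 : chkChunks Eo inv W isH 32 L0 54 = true := by decide +kernel
theorem c0 : Covered Eo inv W isH 54 118 := covered_of_chunks 32 L0 54 118 rfl s0
theorem s1 : chkStream Eo inv W isH 13 118 0xfc00007d00000140001f800000000000d80003fc00000c00000600007e00003e00000280000f800007080003e40001f400001d00007b000002800000a0000e500007a000039800001a0000f200007a000000000002e00000b000079000000800000200000b000079000000800000200000b00007900000700001e200003000000d800004c0001dc00003100000b80000cc0001d80000e9000006800008000000c0000df000003800031c0001ca000002000000800003c00007200008000001b00000cc0001d600001a = true := by decide +kernel
theorem c1 : Covered Eo inv W isH 118 131 := covered_of_stream 13 118 _ s1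
theorem l0 : chkPoints Eo cF (2 * nEv) N ys 1 0 0x19e00000000008080000000001be0000000000828000000000206000000 = true := by decide +kernel
theorem k0 : LinksOK Eo cF (2 * nEv) N ys 0 1 := linksOK_of_points 1 0 _ l0
end Cfsg.Agent.Lib.ToddCox.M21X
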